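import Groth.Agent.Lib.DeligneExt9.Tower
import Groth.Agent.Lib.ModLimH13.Glue
import Groth.Agent.Lib.ModLimH13.Hom2
import Groth.Agent.Lib.QAGen11.Basic

/-!
Deligne's extension of a section over the complement of `V(I)` to a map out of a tensor power of a finite
locally free module covering `I`.
-/

set_option autoImplicit false
set_option linter.unusedSectionVars false
set_option linter.style.haveILetI false
set_option backward.isDefEq.respectTransparency false
set_option backward.isDefEq.respectTransparency.types false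
set_option maxHeartbeats 1600000

universe u

open CategoryTheory CategoryTheory.Limits AlgebraicGeometry Opposite

namespace Groth.Agent.DeligneExt9

variable {X : Scheme.{u}} {E : X.Modules} {I : X.IdealSheafData} (π : E ⟶ ClSub.idealMod I)

/-- The tensor powers of `E`. -/
noncomputable def tpow (E : X.Modules) : ℕ → X.Modules
  | 0 => Coh.structureModule X
  | n + 1 => CohB1.tensorMod E (tpow E n)

/-- The map `E^⊗n ⟶ O`. -/
noncomputable def mul : ∀ n : ℕ, tpow E n ⟶ Coh.structureModule X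
  | 0 => 𝟙 _
  | n + 1 => step π (tpow E n) ≫ mul n

/-- The transition maps. -/
noncomputable def down (n : ℕ) : ∀ k : ℕ, tpow E (n + k) ⟶ tpow E n
  | 0 => 𝟙 _
  | k + 1 => step π (tpow E (n + k)) ≫ down n k

/-- The values of `mul`. -/
noncomputable def mulv (n : ℕ) (O : X.Opens) (t : Γ(tpow E n, O)) : Γ(X, O) := (mul π n).app O t

theorem mulv_add (n : ℕ) (O : X.Opens) (a b : Γ(tpow E n, O)) :
    mulv π n O (a + b) = mulv π n O a + mulv π n O b :=
  map_add ((mul π n).app O).hom a b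

theorem mulv_smul (n : ℕ) (O : X.Opens) (r : Γ(X, O)) (a : Γ(tpow E n, O)) :
    mulv π n O (r • a) = r * mulv π n O a :=
  Scheme.Modules.Hom.app_smul (mul π n) r a

theorem mulv_mres (n : ℕ) {O O' : X.Opens} (i : O' ≤ O) (a : Γ(tpow E n, O)) :
    mulv π n O' (M1.mres (tpow E n) i a) = M1.ores i (mulv π n O a) :=
  M1.app_mres (mul π n) i a

theorem mul_down (n : ℕ) : ∀ k : ℕ, mul π (n + k) = down π n k ≫ mul π n
  | 0 => (Category.id_comp _).symm
  | k + 1 => by
    change step π _ ≫ mul π (n + k) = (step π _ ≫ down π n k) ≫ mul π n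
    rw [mul_down n k, Category.assoc]

theorem isFinLocFree_tpow (hE : FlatMod.IsFinLocFree E) : ∀ n : ℕ, FlatMod.IsFinLocFree (tpow E n)
  | 0 => M2.isFinLocFree_of_isInvertible (QAGen11.isInvertible_unit X)
  | n + 1 => M2.isFinLocFree_tensor hE (isFinLocFree_tpow hE n)

theorem down_mem (hE : FlatMod.IsFinLocFree E) (n : ℕ) (W : X.affineOpens) :
    ∀ (k : ℕ) (t : Γ(tpow E (n + k), W.1)),
      (down π n k).app W.1 t ∈ (I.ideal W) ^ k • (⊤ : Submodule Γ(X, W.1) Γ(tpow E n, W.1))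
  | 0, t => by
    rw [pow_zero, Ideal.one_eq_top, Submodule.top_smul]
    trivial
  | k + 1, t => by
    have h := step_mem π (tpow E (n + k)) (isFinLocFree_tpow hE _) (W := W) t
    change (down π n k).app W.1 ((step π (tpow E (n + k))).app W.1 t) ∈ _
    refine Submodule.smul_induction_on h (fun a ha m _ => ?_) (fun a b ha hb => ?_)
    · rw [Scheme.Modules.Hom.app_smul, pow_succ', ← smul_eq_mul, Submodule.smul_assoc]
      exact Submodule.smul_mem_smul ha (down_mem hE n W k m)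
    · rw [map_add]
      exact Submodule.add_mem _ ha hb

theorem mul_mem (hE : FlatMod.IsFinLocFree E) (W : X.affineOpens) :
    ∀ (n : ℕ) (t : Γ(tpow E n, W.1)), mulv π n W.1 t ∈ (I.ideal W) ^ n
  | 0, t => by
    rw [pow_zero, Ideal.one_eq_top]
    trivial
  | n + 1, t => by
    have h := step_mem π (tpow E n) (isFinLocFree_tpow hE _) (W := W) t
    change mulv π n W.1 ((step π (tpow E n)).app W.1 t) ∈ _
    refine Submodule.smul_induction_on h (fun a ha m _ => ?_) (fun a b ha hb => ?_)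
    · rw [show mulv π n W.1 (a • m) = a * mulv π n W.1 m from Scheme.Modules.Hom.app_smul (mul π n) a m, pow_succ']
      exact Ideal.mul_mem_mul ha (mul_mem hE W n m)
    · rw [show mulv π n W.1 (a + b) = mulv π n W.1 a + mulv π n W.1 b from map_add ((mul π n).app W.1).hom a b]
      exact Ideal.add_mem _ ha hb

/-- `mul` is surjective on germs outside the support. -/
theorem mul_stalk_surjective [Epi π] {x : X} (hx : x ∉ (I.support : Set X)) :
    ∀ (n : ℕ) (b : (Coh.structureModule X).presheaf.stalk x), ∃ z, stk (mul π n) x z = b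
  | 0, b => ⟨b, by
      change ((M1.stalkAb x).map (𝟙 (Coh.structureModule X))).hom b = b
      rw [(M1.stalkAb x).map_id]
      rfl⟩
  | n + 1, b => by
    obtain ⟨w, rfl⟩ := mul_stalk_surjective hx n b
    obtain ⟨z, rfl⟩ := step_stalk_surjective π (tpow E n) hx w
    refine ⟨z, ?_⟩
    change ((M1.stalkAb x).map (step π (tpow E n) ≫ mul π n)).hom z = _
    rw [(M1.stalkAb x).map_comp]
    rfl

section Extension

variable {M : X.Modules} [Coh.IsQCoh M] {U : X.Opens} (hUI : (I.support : Set X) = (U : Set X)ᶜ)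
  (hIft : ∀ W : X.affineOpens, (I.ideal W).FG)

include hUI

theorem basicOpen_le {W : X.affineOpens} {f : Γ(X, W.1)} (hf : f ∈ I.ideal W) : X.basicOpen f ≤ U := by
  intro x hx
  by_contra hxU
  have hxs : x ∈ (I.support : Set X) := by rw [hUI]; exact hxU
  have h := (Scheme.IdealSheafData.mem_support_iff_of_mem (U := W) (X.basicOpen_le f hx)).1 hxs
  rw [Scheme.mem_zeroLocus_iff] at h
  exact h f hf hx

theorem exists_basicOpen {W : X.affineOpens} {s : Set Γ(X, W.1)} (hs : Ideal.span s = I.ideal W) {x : X}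
    (hx : x ∈ W.1 ⊓ U) : ∃ f ∈ s, x ∈ X.basicOpen f := by
  by_contra h
  push Not at h
  have hxs : x ∈ (I.support : Set X) := by
    refine (Scheme.IdealSheafData.mem_support_iff_of_mem (U := W) hx.1).2 ?_
    rw [← hs, Scheme.zeroLocus_span, Scheme.mem_zeroLocus_iff]
    exact h
  rw [hUI] at hxs
  exact hxs hx.2

include hIft

theorem isCompact_inf (W : X.affineOpens) : IsCompact ((W.1 ⊓ U : X.Opens) : Set X) := by
  obtain ⟨s, hs⟩ := hIft W
  have e : ((W.1 ⊓ U : X.Opens) : Set X) = ⋃ f ∈ s, (X.basicOpen f : Set X) := by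
    ext x
    simp only [Set.mem_iUnion, SetLike.mem_coe]
    exact ⟨fun hx => by simpa using exists_basicOpen hUI hs hx,
      fun ⟨f, hf, hx⟩ => ⟨X.basicOpen_le f hx, basicOpen_le hUI (hs ▸ Ideal.subset_span hf) hx⟩⟩
  rw [e]
  exact s.finite_toSet.isCompact_biUnion fun f _ => (W.2.basicOpen f).isCompact

/-- Sections over an affine open vanishing off the support are killed by powers of the ideal. -/
theorem exists_pow_smul_eq_zero (W : X.affineOpens) (m : Γ(M, W.1))
    (hm : M1.mres M (inf_le_left : W.1 ⊓ U ≤ W.1) m = 0) :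
    ∃ k, ∀ b ∈ (I.ideal W) ^ k, b • m = 0 := by
  have h : ∀ f ∈ I.ideal W, ∃ k, f ^ k • m = 0 := fun f hf => by
    refine M1.exists_pow_smul_eq_zero_affine M W.2 f m ?_
    rw [← M1.mres_mres M (inf_le_left : W.1 ⊓ U ≤ W.1) (le_inf (X.basicOpen_le f) (basicOpen_le hUI hf)),
      hm, map_zero]
  have hle : I.ideal W ≤ (Ideal.torsionOf Γ(X, W.1) Γ(M, W.1) m).radical := fun f hf =>
    (h f hf).elim fun k hk => ⟨k, (Ideal.mem_torsionOf_iff _ _).2 hk⟩
  obtain ⟨k, hk⟩ := Ideal.exists_pow_le_of_le_radical_of_fg hle (hIft W)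
  exact ⟨k, fun b hb => (Ideal.mem_torsionOf_iff _ _).1 (hk hb)⟩

/-- A power of the ideal carries a section over `W ⊓ U` into the image of the sections over `W`. -/
theorem exists_pow_smul_mem_range (W : X.affineOpens) (s : Γ(M, W.1 ⊓ U)) :
    ∃ n, ∀ b ∈ (I.ideal W) ^ n, ∃ m : Γ(M, W.1), M1.mres M (inf_le_left : W.1 ⊓ U ≤ W.1) m = M1.ores (inf_le_left : W.1 ⊓ U ≤ W.1) b • s := by
  let N : Ideal Γ(X, W.1) :=
    { carrier := {b | ∃ m : Γ(M, W.1), M1.mres M (inf_le_left : W.1 ⊓ U ≤ W.1) m = M1.ores (inf_le_left : W.1 ⊓ U ≤ W.1) b • s}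
      add_mem' := fun ⟨m, hm⟩ ⟨m', hm'⟩ => ⟨m + m', by rw [map_add, map_add, add_smul, hm, hm']⟩
      zero_mem' := ⟨0, by rw [map_zero, map_zero, zero_smul]⟩
      smul_mem' := fun c b ⟨m, hm⟩ => ⟨c • m, by rw [M1.mres_smul, hm, smul_eq_mul, map_mul, mul_smul]⟩ }
  have hle : I.ideal W ≤ N.radical := by
    intro f hf
    have hfU : X.basicOpen f ≤ W.1 ⊓ U := le_inf (X.basicOpen_le f) (basicOpen_le hUI hf)
    obtain ⟨k, m₀, hm₀⟩ := M1.exists_pow_smul_eq_res_affine M W.2 f (M1.mres M hfU s)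
    set d := M1.mres M (inf_le_left : W.1 ⊓ U ≤ W.1) m₀ - M1.ores (inf_le_left : W.1 ⊓ U ≤ W.1) (f ^ k) • s
    obtain ⟨t, ht⟩ := hIft W
    have hd : ∀ g ∈ t, ∃ l, ∀ (hg : X.basicOpen g ≤ W.1 ⊓ U),
        M1.mres M hg (M1.ores (inf_le_left : W.1 ⊓ U ≤ W.1) (f ^ l) • d) = 0 := by
      intro g hg
      have hgU : X.basicOpen g ≤ W.1 ⊓ U :=
        le_inf (X.basicOpen_le g) (basicOpen_le hUI (ht ▸ Ideal.subset_span hg))
      obtain ⟨l, hl⟩ := M1.exists_pow_smul_eq_zero_affine M (W.2.basicOpen g)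
        (M1.ores (X.basicOpen_le g) f) (M1.mres M hgU d) (by
          have hle' : X.basicOpen (M1.ores (X.basicOpen_le g) f) ≤ X.basicOpen f :=
            (Scheme.basicOpen_res X f _).le.trans inf_le_right
          have hd0 : M1.mres M hfU d = 0 := by
            simp only [d]
            rw [map_sub, M1.mres_mres, M1.mres_smul, M1.ores_ores, map_pow, hm₀, sub_self]
          rw [M1.mres_mres, ← M1.mres_mres M hfU hle', hd0, map_zero])
      refine ⟨l, fun hg' => ?_⟩
      rw [M1.mres_smul, M1.ores_ores, map_pow]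
      exact hl
    choose! l hl using hd
    refine ⟨k + t.sup l, f ^ (t.sup l) • m₀, ?_⟩
    rw [M1.mres_smul, pow_add, mul_comm, map_mul, mul_smul, ← sub_eq_zero, ← smul_sub]
    refine M1.modules_eq_of_locally_eq M (W.1 ⊓ U) (fun g : t => X.basicOpen g.1)
      (fun g => le_inf (X.basicOpen_le g.1) (basicOpen_le hUI (ht ▸ Ideal.subset_span g.2)))
      (fun x hx => ?_) _ _ fun g => ?_
    · obtain ⟨g, hg, hxg⟩ := exists_basicOpen hUI ht hx
      exact TopologicalSpace.Opens.mem_iSup.2 ⟨⟨g, hg⟩, hxg⟩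
    · rw [map_zero, ← Nat.sub_add_cancel (Finset.le_sup (f := l) g.2), pow_add, map_mul, mul_smul,
        M1.mres_smul]
      erw [hl g.1 g.2, smul_zero]
  obtain ⟨n, hn⟩ := Ideal.exists_pow_le_of_le_radical_of_fg hle (hIft W)
  exact ⟨n, fun b hb => hn hb⟩

variable [CompactSpace X] [QuasiSeparatedSpace X] (hE : FlatMod.IsFinLocFree E)

include hE

/-- Deligne's extension lemma. -/
theorem exists_extend (s : Γ(M, U)) : ∃ (n : ℕ) (Φ : tpow E n ⟶ M),
    ∀ (O : X.Opens) (hO : O ≤ U) (t : Γ(tpow E n, O)),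
      Φ.app O t = mulv π n O t • M1.mres M hO s := by
  classical
  obtain ⟨c, -, hc⟩ := ModLimH13.exists_finset_affine_cover (⊤ : X.Opens) isCompact_univ
  choose nW hnW using fun W : X.affineOpens =>
    exists_pow_smul_mem_range (M := M) hUI hIft W (M1.mres M (inf_le_right : W.1 ⊓ U ≤ U) s)
  let n := c.sup nW
  let P := tpow E n
  have hP := isFinLocFree_tpow hE n
  haveI := isQCoh_of_flf hP
  let ψ : ModLimH13.LocalHom P M U :=
    { app := fun O hO => AddMonoidHom.mk' (fun t => mulv π n O t • M1.mres M hO s)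
        (fun a b => by rw [mulv_add, add_smul])
      app_smul := fun O hO r t => by
        change mulv π n O (r • t) • _ = r • (mulv π n O t • M1.mres M hO s)
        rw [← mul_smul, mulv_smul]
      app_mres := fun O O' hO i t => by
        change mulv π n O' (M1.mres P i t) • M1.mres M (i.trans hO) s = M1.mres M i (mulv π n O t • M1.mres M hO s)
        rw [M1.mres_smul, M1.mres_mres, mulv_mres] }
  have hψ : ∀ (O : X.Opens) (hO : O ≤ U) (t : Γ(P, O)),
      ψ.app O hO t = mulv π n O t • M1.mres M hO s := fun _ _ _ => rfl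
  have hloc : ∀ W : c, ∃ φ : ModLimH13.LocalHom P M W.1.1, ∀ t : Γ(P, W.1.1),
      M1.mres M (inf_le_left : W.1.1 ⊓ U ≤ W.1.1) (φ.app W.1.1 le_rfl t) =
        ψ.app (W.1.1 ⊓ U) inf_le_right (M1.mres P inf_le_left t) := by
    intro W
    haveI := projective_sections hP W.1.2
    letI : Module Γ(X, W.1.1) Γ(M, W.1.1 ⊓ U) :=
      Module.compHom _ (M1.ores (inf_le_left : W.1.1 ⊓ U ≤ W.1.1)).hom
    let r : Γ(M, W.1.1) →ₗ[Γ(X, W.1.1)] Γ(M, W.1.1 ⊓ U) :=
      { toFun := M1.mres M inf_le_left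
        map_add' := map_add _
        map_smul' := fun a m => M1.mres_smul M inf_le_left a m }
    let T : Γ(P, W.1.1) →ₗ[Γ(X, W.1.1)] Γ(M, W.1.1 ⊓ U) :=
      { toFun := fun t => ψ.app (W.1.1 ⊓ U) inf_le_right (M1.mres P inf_le_left t)
        map_add' := fun a b => by rw [map_add, map_add]
        map_smul' := fun a t => by
          rw [M1.mres_smul, ψ.app_smul]
          rfl }
    have hT : ∀ t, T t ∈ LinearMap.range r := fun t => by
      have hb := Ideal.pow_le_pow_right (Finset.le_sup (f := nW) W.2) (mul_mem π hE W.1 n t)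
      obtain ⟨m, hm⟩ := hnW W.1 _ hb
      refine ⟨m, hm.trans ?_⟩
      change _ = ψ.app (W.1.1 ⊓ U) inf_le_right (M1.mres P inf_le_left t)
      rw [hψ, mulv_mres]
    obtain ⟨l, hl⟩ := Module.projective_lifting_property r.rangeRestrict (T.codRestrict _ hT)
      r.surjective_rangeRestrict
    obtain ⟨φ, hφ⟩ := ModLimH13.exists_localHom W.1.2 l.toAddMonoidHom fun a b => l.map_smul a b
    refine ⟨φ, fun t => ?_⟩
    rw [hφ]
    exact congrArg Subtype.val (LinearMap.congr_fun hl t)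
  choose φ hφ using hloc
  have hagree : ∀ (W : c) (O : X.Opens) (hW : O ≤ W.1.1) (hU : O ≤ U) (t : Γ(P, O)),
      (φ W).app O hW t = ψ.app O hU t := fun W O hW hU t =>
    ModLimH13.LocalHom.ext_of_affine W.1.2 (inf_le_left : W.1.1 ⊓ U ≤ W.1.1) (φ W) ψ inf_le_left inf_le_right
      (fun t => by rw [(φ W).app_mres _ _ le_rfl inf_le_left]; exact hφ W t) (le_inf hW hU) t
  -- killing the differences on overlaps
  have hd : ∀ p : c × c, ∃ Zs : Finset X.affineOpens, ∃ k : ℕ,
      (∀ Z ∈ Zs, Z.1 ≤ p.1.1.1 ⊓ p.2.1.1) ∧ (∀ x ∈ p.1.1.1 ⊓ p.2.1.1, ∃ Z ∈ Zs, x ∈ Z.1) ∧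
      ∀ Z ∈ Zs, ∀ (h₁ : Z.1 ≤ p.1.1.1) (h₂ : Z.1 ≤ p.2.1.1) (t : Γ(P, Z.1)),
        ∀ b ∈ (I.ideal Z) ^ k, b • ((φ p.1).app Z.1 h₁ t - (φ p.2).app Z.1 h₂ t) = 0 := by
    rintro ⟨a, b⟩
    obtain ⟨Zs, hZ, hZc⟩ := ModLimH13.exists_finset_affine_cover (a.1.1 ⊓ b.1.1)
      (QuasiSeparatedSpace.inter_isCompact _ _ a.1.1.2 a.1.2.isCompact b.1.1.2 b.1.2.isCompact)
    have hk : ∀ Z : Zs, ∃ k : ℕ, ∀ (h₁ : Z.1.1 ≤ a.1.1) (h₂ : Z.1.1 ≤ b.1.1) (t : Γ(P, Z.1.1)),
        ∀ r ∈ (I.ideal Z.1) ^ k, r • ((φ a).app Z.1.1 h₁ t - (φ b).app Z.1.1 h₂ t) = 0 := by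
      intro Z
      have hZa : Z.1.1 ≤ a.1.1 := (hZ Z.1 Z.2).trans inf_le_left
      have hZb : Z.1.1 ≤ b.1.1 := (hZ Z.1 Z.2).trans inf_le_right
      obtain ⟨G, hG⟩ := (finite_sections hP Z.1.2).fg_top
      have h0 : ∀ t : Γ(P, Z.1.1), M1.mres M (inf_le_left : Z.1.1 ⊓ U ≤ Z.1.1)
          ((φ a).app Z.1.1 hZa t - (φ b).app Z.1.1 hZb t) = 0 := fun t => by
        rw [map_sub, sub_eq_zero, ← (φ a).app_mres, ← (φ b).app_mres,
          hagree a _ _ inf_le_right, hagree b _ _ inf_le_right]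
      choose kt hkt using fun t => exists_pow_smul_eq_zero (M := M) hUI hIft Z.1 _ (h0 t)
      refine ⟨G.sup kt, fun h₁ h₂ t r hr => ?_⟩
      have ht : t ∈ Submodule.span Γ(X, Z.1.1) (G : Set Γ(P, Z.1.1)) := hG ▸ trivial
      induction ht using Submodule.span_induction with
      | mem t ht => exact hkt t r (Ideal.pow_le_pow_right (Finset.le_sup (f := kt) ht) hr)
      | zero => rw [map_zero, map_zero, sub_self, smul_zero]
      | add t t' _ _ e e' => rw [map_add, map_add, add_sub_add_comm, smul_add, e, e', add_zero]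
      | smul r' t _ e => rw [(φ a).app_smul, (φ b).app_smul, ← smul_sub, smul_comm, e, smul_zero]
    choose k hk using hk
    refine ⟨Zs, Zs.attach.sup k, hZ, hZc, fun Z hZ' h₁ h₂ t r hr => ?_⟩
    exact hk ⟨Z, hZ'⟩ h₁ h₂ t r
      (Ideal.pow_le_pow_right (Finset.le_sup (f := k) (Finset.mem_attach Zs ⟨Z, hZ'⟩)) hr)
  choose Zs kd hZsub hZcov hkill using hd
  let K := Finset.univ.sup kd
  let δ := down π n K
  haveI := isQCoh_of_flf (isFinLocFree_tpow hE (n + K))
  let φ' : ∀ W : c, ModLimH13.LocalHom (tpow E (n + K)) M W.1.1 := fun W =>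
    { app := fun O hO => ((φ W).app O hO).comp (δ.app O).hom
      app_smul := fun O hO r t => by
        change (φ W).app O hO (δ.app O (r • t)) = r • (φ W).app O hO (δ.app O t)
        rw [Scheme.Modules.Hom.app_smul, (φ W).app_smul]
      app_mres := fun O O' hO i t => by
        change (φ W).app O' _ (δ.app O' (M1.mres _ i t)) = M1.mres M i ((φ W).app O hO (δ.app O t))
        rw [M1.app_mres]
        exact (φ W).app_mres O O' hO i _ }
  obtain ⟨Φ, hΦ⟩ := ModLimH13.exists_hom_of_localHom (V := fun W : c => W.1.1)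
    (by
      refine top_le_iff.1 fun x _ => ?_
      obtain ⟨W, hW, hxW⟩ := hc x trivial
      exact TopologicalSpace.Opens.mem_iSup.2 ⟨⟨W, hW⟩, hxW⟩) φ' (by
      intro a b O ha hb t
      refine M1.modules_eq_of_locally_eq M O (fun Z : Zs (a, b) => O ⊓ Z.1.1) (fun Z => inf_le_left)
        (fun x hx => ?_) _ _ fun Z => ?_
      · obtain ⟨Z, hZ, hxZ⟩ := hZcov (a, b) x ⟨ha hx, hb hx⟩
        exact TopologicalSpace.Opens.mem_iSup.2 ⟨⟨Z, hZ⟩, hx, hxZ⟩
      · have hZa : Z.1.1 ≤ a.1.1 := (hZsub _ Z.1 Z.2).trans inf_le_left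
        have hZb : Z.1.1 ≤ b.1.1 := (hZsub _ Z.1 Z.2).trans inf_le_right
        rw [← (φ' a).app_mres O _ ha inf_le_left, ← (φ' b).app_mres O _ hb inf_le_left]
        refine ModLimH13.LocalHom.ext_of_affine Z.1.2 (le_refl Z.1.1) (φ' a) (φ' b) hZa hZb (fun t => ?_)
          inf_le_right _
        rw [M1.mres_id]
        change (φ a).app _ hZa (δ.app _ t) = (φ b).app _ hZb (δ.app _ t)
        rw [← sub_eq_zero]
        have hmem := down_mem π hE n Z.1 K t
        refine Submodule.smul_induction_on hmem (fun r hr m _ => ?_) (fun x y e e' => ?_)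
        · rw [(φ a).app_smul, (φ b).app_smul, ← smul_sub]
          exact hkill (a, b) Z.1 Z.2 hZa hZb m r
            (Ideal.pow_le_pow_right (Finset.le_sup (f := kd) (Finset.mem_univ (a, b))) hr)
        · rw [map_add, map_add, add_sub_add_comm, e, e', add_zero])
  refine ⟨n + K, Φ, fun O hO t => ?_⟩
  refine M1.modules_eq_of_locally_eq M O (fun W : c => O ⊓ W.1.1) (fun W => inf_le_left)
    (fun x hx => ?_) _ _ fun W => ?_
  · obtain ⟨W, hW, hxW⟩ := hc x trivial
    exact TopologicalSpace.Opens.mem_iSup.2 ⟨⟨W, hW⟩, hx, hxW⟩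
  · rw [M1.mres_smul, ← M1.app_mres Φ, hΦ W _ inf_le_right]
    change (φ W).app _ _ (δ.app _ (M1.mres _ _ t)) = _
    rw [hagree W _ _ (inf_le_left.trans hO)]
    rw [hψ, M1.mres_mres]
    refine congrArg (· • _) ?_
    have h := M1.app_mres (δ ≫ mul π n) (inf_le_left : O ⊓ W.1.1 ≤ O) t
    refine h.trans ?_
    rw [show δ ≫ mul π n = mul π (n + K) from (mul_down π n K).symm]
    rfl

end Extension

end Groth.Agent.DeligneExt9
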