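import Groth.Agent.Lib.DeligneExt9.Extend
import Groth.Prelude.Def_PerfAux

/-!
The resolution property from boundary ideals.
-/

set_option autoImplicit false
set_option linter.unusedSectionVars false
set_option linter.style.haveILetI false
set_option backward.isDefEq.respectTransparency false
set_option backward.isDefEq.respectTransparency.types false
set_option maxHeartbeats 1600000

universe u

open CategoryTheory CategoryTheory.Limits AlgebraicGeometry Opposite

namespace Groth.Agent.DeligneExt9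

variable {X : Scheme.{u}}

/-- A finite type ideal module has finitely generated ideals on affine opens. -/
theorem fg_ideal {I : X.IdealSheafData} (h : CohB1.IsFT (ClSub.idealMod I)) (W : X.affineOpens) :
    (I.ideal W).FG := by
  haveI := M1.finite_sections (M2.isQCoh_idealMod I) h W.2
  let ι : Γ(ClSub.idealMod I, W.1) →ₗ[Γ(X, W.1)] Γ(X, W.1) :=
    { toFun := M2.idealIncl I
      map_add' := M2.idealIncl_add I
      map_smul' := fun r a => M2.idealIncl_smul I r a }
  have hι : LinearMap.range ι = (I.ideal W : Submodule Γ(X, W.1) Γ(X, W.1)) :=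
    SetLike.coe_injective (M2.range_idealIncl I W)
  rw [← hι, LinearMap.range_eq_map]
  exact Submodule.FG.map _ Module.Finite.fg_top

/-- A finite affine cover by complements of finite type closed subsets makes the scheme qcqs. -/
theorem qcqs_of_cover {m : ℕ} (U : Fin m → X.Opens) (hUaff : ∀ j, IsAffineOpen (U j)) (hcov : ⨆ j, U j = ⊤)
    (I : Fin m → X.IdealSheafData) (hIft : ∀ j, ∀ W : X.affineOpens, ((I j).ideal W).FG)
    (hIsupp : ∀ j, ((I j).support : Set ↥X) = (U j : Set ↥X)ᶜ) :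
    CompactSpace X ∧ QuasiSeparatedSpace X := by
  have hc : ∀ x : X, ∃ j, x ∈ U j := fun x =>
    TopologicalSpace.Opens.mem_iSup.1 (show x ∈ ⨆ j, U j by rw [hcov]; trivial)
  refine ⟨⟨?_⟩, quasiSeparatedSpace_iff_forall_affineOpens.mpr fun ⟨V, hV⟩ ⟨V', hV'⟩ => ?_⟩
  · have e : (Set.univ : Set X) = ⋃ j, (U j : Set X) :=
      (Set.iUnion_eq_univ_iff.2 hc).symm
    rw [e]
    exact isCompact_iUnion fun j => (hUaff j).isCompact
  · have e : (V : Set X) ∩ V' = ⋃ j, ((V ⊓ U j : X.Opens) : Set X) ∩ ((V' ⊓ U j : X.Opens) : Set X) := by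
      ext x
      simp only [Set.mem_iUnion, Set.mem_inter_iff, SetLike.mem_coe, TopologicalSpace.Opens.mem_inf]
      exact ⟨fun h => (hc x).elim fun j hj => ⟨j, ⟨h.1, hj⟩, h.2, hj⟩, fun ⟨j, h, h'⟩ => ⟨h.1, h'.1⟩⟩
    rw [e]
    exact isCompact_iUnion fun j =>
      (hUaff j).isQuasiSeparated _ _ inf_le_right (V ⊓ U j).2
      (isCompact_inf (hIsupp j) (hIft j) ⟨V, hV⟩) inf_le_right (V' ⊓ U j).2
      (isCompact_inf (hIsupp j) (hIft j) ⟨V', hV'⟩)

/-- The resolution property follows once the boundary ideals are quotients of finite locally free modules. -/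
theorem hasResolutionProperty_of_boundary {m : ℕ} (U : Fin m → X.Opens) (hUaff : ∀ j, IsAffineOpen (U j))
    (hcov : ⨆ j, U j = ⊤) (I : Fin m → X.IdealSheafData) (hIft : ∀ j, CohB1.IsFT (ClSub.idealMod (I j)))
    (hIsupp : ∀ j, ((I j).support : Set ↥X) = (U j : Set ↥X)ᶜ)
    (H : ∀ j, ∃ (E : X.Modules) (π : E ⟶ ClSub.idealMod (I j)), FlatMod.IsFinLocFree E ∧ Epi π) :
    PerfAux.HasResolutionProperty X := by
  obtain ⟨hc, hq⟩ := qcqs_of_cover U hUaff hcov I (fun j => fg_ideal (hIft j)) hIsupp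
  haveI := hc
  haveI := hq
  intro M hM hMf
  haveI := hM
  choose E π hE hπ using H
  haveI : ∀ j, Module.Finite Γ(X, U j) Γ(M, U j) := fun j => M1.finite_sections hM hMf (hUaff j)
  choose d gen hgen using fun j : Fin m =>
    Submodule.fg_iff_exists_fin_generating_family.1 (Module.Finite.fg_top (R := Γ(X, U j)) (M := Γ(M, U j)))
  choose n Φ hΦ using fun (j : Fin m) (a : Fin (d j)) =>
    exists_extend (π j) (M := M) (hIsupp j) (fg_ideal (hIft j)) (hE j) (gen j a)
  let σ := Σ j : Fin m, Fin (d j)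
  let N := Fintype.card σ
  let e : Fin N ≃ σ := (Fintype.equivFin σ).symm
  let A : Fin N → X.Modules := fun i => tpow (E (e i).1) (n (e i).1 (e i).2)
  let Ψ : ⨁ A ⟶ M := biproduct.desc fun i => Φ (e i).1 (e i).2
  refine ⟨⨁ A, Ψ, KFlat.Sch.isFinLocFree_biproduct A fun i => isFinLocFree_tpow (hE _) _, ?_⟩
  refine (M1.epi_iff_stalk _).2 fun x b => ?_
  change M.presheaf.stalk x at b
  obtain ⟨j, hxj⟩ := TopologicalSpace.Opens.mem_iSup.1 (show x ∈ ⨆ j, U j by rw [hcov]; trivial)
  have hxs : x ∉ ((I j).support : Set X) := by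
    rw [hIsupp j]
    exact fun h => h hxj
  -- germs of the generators lie in the image
  have hgenmem : ∀ (a : Fin (d j)) (c : X.presheaf.stalk x),
      ∃ z, stk Ψ x z = c • M.presheaf.germ (U j) x hxj (gen j a) := by
    intro a c
    haveI := hπ j
    obtain ⟨O', hxO', r, rfl⟩ := X.presheaf.exists_germ_eq c
    obtain ⟨z₀, hz₀⟩ := mul_stalk_surjective (π j) hxs (n j a)
      ((Coh.structureModule X).presheaf.germ O' x hxO' r)
    obtain ⟨V, hxV, t, rfl⟩ := (tpow (E j) (n j a)).presheaf.exists_germ_eq z₀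
    rw [stk_germ] at hz₀
    obtain ⟨O, hxO₁, i₁, i₂, he⟩ := (Coh.structureModule X).presheaf.germ_eq x hxV hxO' _ _ hz₀
    have he' : M1.ores i₁.le (mulv (π j) (n j a) V t) = M1.ores i₂.le r := he
    have hg : X.presheaf.germ V x hxV (mulv (π j) (n j a) V t) = X.presheaf.germ O' x hxO' r := by
      have h1 := congrArg (X.presheaf.germ O x hxO₁) he'
      rwa [TopCat.Presheaf.germ_res_apply, TopCat.Presheaf.germ_res_apply] at h1
    obtain ⟨i, hi⟩ := e.surjective ⟨j, a⟩
    have hmem : stk (Φ j a) x ((tpow (E j) (n j a)).presheaf.germ V x hxV t) =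
        X.presheaf.germ O' x hxO' r • M.presheaf.germ (U j) x hxj (gen j a) := by
      have hxO : x ∈ V ⊓ U j := ⟨hxV, hxj⟩
      have e1 : M.presheaf.germ (V ⊓ U j) x hxO (M1.mres M inf_le_left ((Φ j a).app V t)) =
          M.presheaf.germ V x hxV ((Φ j a).app V t) := M1.germ_mres M inf_le_left hxO _
      rw [stk_germ, ← e1, ← M1.app_mres, hΦ j a _ inf_le_right, M1.germ_smul, M1.germ_mres, mulv_mres,
        TopCat.Presheaf.germ_res_apply, hg]
    have hcomp : ∀ q : σ, q = ⟨j, a⟩ → ∃ z,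
        stk (Φ q.1 q.2) x z = X.presheaf.germ O' x hxO' r • M.presheaf.germ (U j) x hxj (gen j a) := by
      rintro q rfl
      exact ⟨_, hmem⟩
    obtain ⟨z, hz⟩ := hcomp (e i) hi
    refine ⟨stk (biproduct.ι A i) x z, ?_⟩
    rw [← hz]
    change ((M1.stalkAb x).map Ψ).hom (((M1.stalkAb x).map (biproduct.ι A i)).hom z) = _
    have hd : biproduct.ι A i ≫ Ψ = Φ (e i).1 (e i).2 := biproduct.ι_desc _ _
    exact (ConcreteCategory.congr_hom ((M1.stalkAb x).map_comp _ _) z).symm.trans (by rw [hd]; rfl)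
  obtain ⟨r, h, hr, hb⟩ := M1.exists_germ_smul_eq M (hUaff j) hxj b
  obtain ⟨v, hv⟩ := hr
  have hb' : b = (↑v⁻¹ : X.presheaf.stalk x) • M.presheaf.germ (U j) x hxj h := by
    rw [← hb, ← hv, ← mul_smul, Units.inv_mul, one_smul]
  suffices hall : ∀ c : X.presheaf.stalk x, ∃ z, stk Ψ x z = c • M.presheaf.germ (U j) x hxj h by
    obtain ⟨z, hz⟩ := hall ↑v⁻¹
    exact ⟨z, hz.trans hb'.symm⟩
  clear hb hb'
  have hspan : h ∈ Submodule.span Γ(X, U j) (Set.range (gen j)) := (hgen j).symm ▸ trivial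
  induction hspan using Submodule.span_induction with
  | mem y hy =>
    obtain ⟨a, rfl⟩ := hy
    exact hgenmem a
  | zero => exact fun c => ⟨0, by rw [map_zero, map_zero, smul_zero]⟩
  | add y y' _ _ h₁ h₂ =>
    intro c
    obtain ⟨z, hz⟩ := h₁ c
    obtain ⟨z', hz'⟩ := h₂ c
    exact ⟨z + z', by rw [map_add, map_add, smul_add, hz, hz']⟩
  | smul r' y _ h₁ =>
    intro c
    obtain ⟨z, hz⟩ := h₁ (c * X.presheaf.germ (U j) x hxj r')
    exact ⟨z, by rw [M1.germ_smul, hz, mul_smul]⟩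

end Groth.Agent.DeligneExt9
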