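import Groth.Prelude.Def_ClSub2
import Groth.Prelude.Def_FlatMod2
import Groth.Agent.Lib.TensorMod.Hom
import Groth.Agent.Lib.TensorMod.IdealMod
import Groth.Agent.Lib.TensorMod.Invertible
import Groth.Agent.Lib.TensorMod.QCohTensor
import Groth.Agent.Lib.CurveCoh17.IdealPow
import Groth.Agent.Lib.ModM1.Fpqc
import Groth.Agent.Lib.ModM1.FT
import Groth.Agent.Lib.ModM1.Coh
import Groth.Agent.Lib.KFlat.FinLocFree

/-!
The tower of iterated tensor products of a finite locally free module mapping onto an ideal.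
-/

set_option autoImplicit false
set_option linter.unusedSectionVars false
set_option linter.style.haveILetI false
set_option backward.isDefEq.respectTransparency false
set_option backward.isDefEq.respectTransparency.types false
set_option maxHeartbeats 800000

universe u

open CategoryTheory CategoryTheory.Limits AlgebraicGeometry Opposite TensorProduct

namespace Groth.Agent.DeligneExt9

variable {X : Scheme.{u}}

theorem isQCoh_of_flf {P : X.Modules} (hP : FlatMod.IsFinLocFree P) : Coh.IsQCoh P :=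
  M2.isQCoh_of_isFinLocFree hP

theorem finite_sections {P : X.Modules} (hP : FlatMod.IsFinLocFree P) {W : X.Opens} (hW : IsAffineOpen W) :
    Module.Finite Γ(X, W) Γ(P, W) :=
  M1.finite_sections (isQCoh_of_flf hP) (M1.isFP_isFT (M1.isFP_of_isFinLocFree hP)) hW

/-- Sections of a finite locally free module over an affine open are projective. -/
theorem projective_sections {P : X.Modules} (hP : FlatMod.IsFinLocFree P) {W : X.Opens} (hW : IsAffineOpen W) :
    Module.Projective Γ(X, W) Γ(P, W) := by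
  haveI := isQCoh_of_flf hP
  haveI : Module.FinitePresentation Γ(X, W) Γ(P, W) :=
    M1.finitePresentation_sections (M1.isFP_of_isFinLocFree hP) hW
  haveI := M1.isQCoh_fromSpec (isQCoh_of_flf hP) hW
  let L := moduleSpecΓFunctor.obj (P.restrict hW.fromSpec)
  let a := @asIso _ _ _ _ (P.restrict hW.fromSpec).fromTildeΓ
    (Scheme.Modules.isIso_fromTildeΓ_of_isQuasicoherent (R := Γ(X, W)) (P.restrict hW.fromSpec))
  haveI : Module.Flat Γ(X, W) L :=
    M1.flat_of_isFinLocFree_tilde _ (M2.isFinLocFree_of_iso a.symm (M2.isFinLocFree_restrict hW.fromSpec hP))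
  haveI : Module.Flat Γ(X, W) Γ(P, W) := Module.Flat.of_linearEquiv (M := L) (M1.affineSecEquiv P hW).symm
  exact Module.Flat.projective_of_finitePresentation

/-- The map on stalks. -/
noncomputable def stk {M N : X.Modules} (f : M ⟶ N) (x : X) : M.presheaf.stalk x →+ N.presheaf.stalk x :=
  ((M1.stalkAb x).map f).hom

theorem stk_germ {M N : X.Modules} (f : M ⟶ N) {U : X.Opens} {x : X} (hx : x ∈ U) (s : Γ(M, U)) :
    stk f x (M.presheaf.germ U x hx s) = N.presheaf.germ U x hx (f.app U s) :=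
  M1.germ_naturality f U x hx s

section Step

variable {E : X.Modules} {I : X.IdealSheafData} (π : E ⟶ ClSub.idealMod I) (P : X.Modules)

/-- The map `E ⊗ P ⟶ P` given by multiplication along `π`. -/
noncomputable def step : CohB1.tensorMod E P ⟶ P :=
  M2.tensorMap (π ≫ ClSub.idealModι I) (𝟙 P) ≫ (M2.tensorLUnit P).hom

theorem step_tsec {V : X.Opens} (e : Γ(E, V)) (p : Γ(P, V)) :
    (step π P).app V (M2.tsec E P e p) = M2.idealIncl I (π.app V e) • p := by
  change (M2.tensorLUnit P).hom.app V ((M2.tensorMap (π ≫ ClSub.idealModι I) (𝟙 P)).app V _) = _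
  rw [M2.tensorMap_tsec, CurveCoh17.tensorLUnit_tsec]
  rfl

/-- Induction on the germs of a tensor product. -/
theorem tensor_germ_induction {x : X} {motive : (CohB1.tensorMod E P).presheaf.stalk x → Prop}
    (h0 : motive 0) (hadd : ∀ a b, motive a → motive b → motive (a + b))
    (htm : ∀ (V : X.Opens) (hx : x ∈ V) (e : Γ(E, V)) (p : Γ(P, V)),
      motive ((CohB1.tensorMod E P).presheaf.germ V x hx (M2.tsec E P e p)))
    (z : (CohB1.tensorMod E P).presheaf.stalk x) : motive z := by
  obtain ⟨w, rfl⟩ := (M2.stalkEquiv E P x).symm.surjective z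
  induction w using TensorProduct.induction_on with
  | zero => rw [map_zero]; exact h0
  | add a b ha hb => rw [map_add]; exact hadd _ _ ha hb
  | tmul a b =>
    obtain ⟨U₁, h₁, e, rfl⟩ := E.presheaf.exists_germ_eq a
    obtain ⟨U₂, h₂, p, rfl⟩ := P.presheaf.exists_germ_eq b
    have h := M2.stalkEquiv_tsec E P x (show x ∈ U₁ ⊓ U₂ from ⟨h₁, h₂⟩) (M1.mres E inf_le_left e)
      (M1.mres P inf_le_right p)
    rw [M1.germ_mres, M1.germ_mres] at h
    rw [← h, LinearEquiv.symm_apply_apply]
    exact htm _ _ _ _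

/-- On affine opens the image of `step` lies in the ideal times the sections. -/
theorem step_mem (hP : FlatMod.IsFinLocFree P) {W : X.affineOpens} (t : Γ(CohB1.tensorMod E P, W.1)) :
    (step π P).app W.1 t ∈ (I.ideal W) • (⊤ : Submodule Γ(X, W.1) Γ(P, W.1)) := by
  haveI := isQCoh_of_flf hP
  haveI : Coh.IsQCoh (ClSub.idealMod I) := M2.isQCoh_idealMod I
  set N := (I.ideal W) • (⊤ : Submodule Γ(X, W.1) Γ(P, W.1))
  set v := (step π P).app W.1 t
  let J : Ideal Γ(X, W.1) :=
    { carrier := {r | r • v ∈ N}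
      add_mem' := fun {a b} ha hb => by
        rw [Set.mem_setOf_eq, add_smul]; exact N.add_mem ha hb
      zero_mem' := by rw [Set.mem_setOf_eq, zero_smul]; exact N.zero_mem
      smul_mem' := fun c a ha => by
        rw [Set.mem_setOf_eq, smul_eq_mul, mul_smul]; exact N.smul_mem c ha }
  suffices hJ : J = ⊤ by
    have h : (1 : Γ(X, W.1)) • v ∈ N := (Ideal.eq_top_iff_one J).1 hJ
    rwa [one_smul] at h
  by_contra hJ
  obtain ⟨m, hm, hJm⟩ := Ideal.exists_le_maximal J hJ
  let y : PrimeSpectrum Γ(X, W.1) := ⟨m, hm.isPrime⟩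
  let x : X := W.2.fromSpec y
  have hx : x ∈ W.1 := W.2.range_fromSpec.le ⟨y, rfl⟩
  have hprime : (W.2.primeIdealOf ⟨x, hx⟩) = y :=
    W.2.fromSpec.isOpenEmbedding.injective (W.2.fromSpec_primeIdealOf _)
  have key : ∀ z : (CohB1.tensorMod E P).presheaf.stalk x, ∃ (r : Γ(X, W.1)) (n : Γ(P, W.1)),
      IsUnit (X.presheaf.germ W.1 x hx r) ∧ n ∈ N ∧
        X.presheaf.germ W.1 x hx r • stk (step π P) x z =
          P.presheaf.germ W.1 x hx n := by
    intro z
    refine tensor_germ_induction (motive := fun z => ∃ (r : Γ(X, W.1)) (n : Γ(P, W.1)),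
      IsUnit (X.presheaf.germ W.1 x hx r) ∧ n ∈ N ∧
        X.presheaf.germ W.1 x hx r • stk (step π P) x z = P.presheaf.germ W.1 x hx n) P ?_ ?_ ?_ z
    · refine ⟨1, 0, by rw [map_one]; exact isUnit_one, N.zero_mem, ?_⟩
      rw [map_zero, map_zero]
      exact smul_zero _
    · rintro a b ⟨r, n, hr, hn, he⟩ ⟨r', n', hr', hn', he'⟩
      refine ⟨r * r', r' • n + r • n', by rw [map_mul]; exact hr.mul hr',
        N.add_mem (N.smul_mem _ hn) (N.smul_mem _ hn'), ?_⟩
      rw [map_add, map_add, M1.germ_smul, M1.germ_smul, ← he, ← he', map_mul, smul_add, mul_smul, mul_smul]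
      rw [smul_comm (X.presheaf.germ W.1 x hx r) (X.presheaf.germ W.1 x hx r') (stk (step π P) x a)]
    · intro V hxV e p
      have hs : stk (step π P) x
          ((CohB1.tensorMod E P).presheaf.germ V x hxV (M2.tsec E P e p)) =
          X.presheaf.germ V x hxV (M2.idealIncl I (π.app V e)) • P.presheaf.germ V x hxV p := by
        rw [stk_germ, step_tsec, M1.germ_smul]
      obtain ⟨r₁, a₁, hr₁, ha⟩ := M1.exists_germ_smul_eq (ClSub.idealMod I) W.2 hx
        ((ClSub.idealMod I).presheaf.germ V x hxV (π.app V e))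
      obtain ⟨r₂, p₂, hr₂, hp⟩ := M1.exists_germ_smul_eq P W.2 hx (P.presheaf.germ V x hxV p)
      have hmem : M2.idealIncl I a₁ ∈ I.ideal W := by
        rw [← SetLike.mem_coe, ← M2.range_idealIncl]
        exact ⟨a₁, rfl⟩
      have ha' : X.presheaf.germ W.1 x hx r₁ * X.presheaf.germ V x hxV (M2.idealIncl I (π.app V e)) =
          X.presheaf.germ W.1 x hx (M2.idealIncl I a₁) := by
        have e1 : (ClSub.idealMod I).presheaf.germ (W.1 ⊓ V) x ⟨hx, hxV⟩
            (M1.ores (inf_le_left : W.1 ⊓ V ≤ W.1) r₁ • M1.mres (ClSub.idealMod I) (inf_le_right : W.1 ⊓ V ≤ V) (π.app V e)) =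
            (ClSub.idealMod I).presheaf.germ W.1 x hx a₁ := by
          rw [M1.germ_smul, M1.germ_mres, TopCat.Presheaf.germ_res_apply, ha]
        obtain ⟨O, hxO, i₁, i₂, he⟩ := (ClSub.idealMod I).presheaf.germ_eq x _ hx _ _ e1
        have he' : M1.mres (ClSub.idealMod I) i₁.le
            (M1.ores (inf_le_left : W.1 ⊓ V ≤ W.1) r₁ • M1.mres (ClSub.idealMod I) (inf_le_right : W.1 ⊓ V ≤ V) (π.app V e)) =
            M1.mres (ClSub.idealMod I) i₂.le a₁ := he
        have h2 := congrArg (M2.idealIncl I) he'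
        erw [M2.idealIncl_res, M2.idealIncl_res, M2.idealIncl_smul, M2.idealIncl_res] at h2
        have h3 := congrArg (X.presheaf.germ O x hxO) h2
        rw [TopCat.Presheaf.germ_res_apply, TopCat.Presheaf.germ_res_apply, map_mul,
          TopCat.Presheaf.germ_res_apply, TopCat.Presheaf.germ_res_apply] at h3
        exact h3
      refine ⟨r₁ * r₂, M2.idealIncl I a₁ • p₂, by rw [map_mul]; exact hr₁.mul hr₂,
        Submodule.smul_mem_smul hmem trivial, ?_⟩
      rw [hs, M1.germ_smul, ← hp, ← ha', map_mul]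
      rw [← mul_smul, ← mul_smul]
      congr 1
      ring
  obtain ⟨r, n, hr, hn, he⟩ := key ((CohB1.tensorMod E P).presheaf.germ W.1 x hx t)
  have he' : P.presheaf.germ W.1 x hx (r • v - n) = 0 := by
    rw [stk_germ] at he
    rw [map_sub, M1.germ_smul, sub_eq_zero]
    exact he
  obtain ⟨c, hc, hc0⟩ := M1.exists_smul_eq_zero_of_germ_eq_zero P W.2 hx _ he'
  have hcr : c * r ∈ J := by
    change (c * r) • v ∈ N
    rw [mul_smul, show c • r • v = c • n from by rwa [← sub_eq_zero, ← smul_sub]]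
    exact N.smul_mem c hn
  have hu := (M1.isUnit_germ_iff W.2 hx (c * r)).1 (by rw [map_mul]; exact hc.mul hr)
  rw [hprime] at hu
  exact hu (hJm hcr)

/-- `step` is surjective on germs where the ideal is the unit ideal. -/
theorem step_stalk_surjective [Epi π] {x : X} (hx : x ∉ (I.support : Set X)) (b : P.presheaf.stalk x) :
    ∃ z, stk (step π P) x z = b := by
  obtain ⟨V, hxV, p, rfl⟩ := P.presheaf.exists_germ_eq b
  obtain ⟨W, hW, hxW, -⟩ := exists_isAffineOpen_mem_and_subset (U := (⊤ : X.Opens)) (x := x) trivial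
  obtain ⟨f, hf, hfx⟩ : ∃ f ∈ I.ideal ⟨W, hW⟩, x ∈ X.basicOpen f := by
    by_contra h
    push Not at h
    apply hx
    refine (Scheme.IdealSheafData.mem_support_iff_of_mem (U := ⟨W, hW⟩) hxW).2 ?_
    rw [Scheme.mem_zeroLocus_iff]
    exact h
  obtain ⟨a, ha⟩ : f ∈ Set.range (M2.idealIncl I (U := W)) := by
    rw [M2.range_idealIncl I ⟨W, hW⟩]
    exact hf
  obtain ⟨U', hU', hxU', e, he⟩ := (M1.epi_iff_locally_surjective π).1 inferInstance W a x hxW
  let O := U' ⊓ V ⊓ X.basicOpen f
  have hO : O ≤ W := inf_le_left.trans (inf_le_left.trans hU')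
  obtain ⟨v, hv⟩ : IsUnit (M1.ores hO f) := by
    have h1 : IsUnit (M1.ores (X.basicOpen_le f) f) :=
      RingedSpace.isUnit_res_basicOpen X.toLocallyRingedSpace.toRingedSpace f
    have h2 := h1.map (M1.ores (inf_le_right : O ≤ X.basicOpen f)).hom
    rwa [M1.ores_ores] at h2
  have hxO : x ∈ O := ⟨⟨hxU', hxV⟩, hfx⟩
  have hOV : O ≤ V := inf_le_left.trans inf_le_right
  refine ⟨(CohB1.tensorMod E P).presheaf.germ O x hxO
    (M2.tsec E P (M1.mres E (inf_le_left.trans inf_le_left) e)
      ((↑v⁻¹ : Γ(X, O)) • M1.mres P hOV p)), ?_⟩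
  rw [stk_germ, step_tsec, M1.app_mres, he]
  erw [M1.mres_mres]
  erw [M2.idealIncl_res]
  rw [ha]
  erw [← hv]
  rw [← mul_smul, Units.mul_inv, one_smul, M1.germ_mres]

end Step

end Groth.Agent.DeligneExt9
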